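import Mathlib

/-! Sheaves on affine opens determined by two-element standard covers. -/

set_option autoImplicit false
universe u

open CategoryTheory AlgebraicGeometry TopologicalSpace Opposite

namespace AffSheafLib

variable (X : Scheme.{u})

/-- The inclusion of affine opens. -/
abbrev incl : X.affineOpens ⥤ TopologicalSpace.Opens X :=
  Monotone.functor (f := fun U : X.affineOpens => (U : X.Opens)) (fun _ _ h => h)

instance : (incl X).Full where
  map_surjective f := ⟨homOfLE (leOfHom f), Subsingleton.elim _ _⟩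

instance : (incl X).Faithful where

instance : (incl X).IsCoverDense (_root_.Opens.grothendieckTopology X) where
  is_cover U x hx := by
    obtain ⟨V, hV, hxV, hVU⟩ := exists_isAffineOpen_mem_and_subset hx
    exact ⟨V, homOfLE hVU, ⟨⟨⟨V, hV⟩, 𝟙 _, homOfLE hVU, rfl⟩⟩, hxV⟩

variable {X} (F : (X.affineOpens)ᵒᵖ ⥤ Type u)

/-- The two-element gluing property. -/
def Glue₂ : Prop :=
  ∀ (U V W VW : X.affineOpens) (f g : Γ(X, (U : X.Opens))),
    (V : X.Opens) = X.basicOpen f → (W : X.Opens) = X.basicOpen g →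
    (VW : X.Opens) = X.basicOpen (f * g) → (U : X.Opens) = (V : X.Opens) ⊔ (W : X.Opens) →
    ∀ (hV : V ≤ U) (hW : W ≤ U) (h1 : VW ≤ V) (h2 : VW ≤ W),
    Function.Injective (fun s : F.obj (op U) => (F.map (homOfLE hV).op s, F.map (homOfLE hW).op s)) ∧
    Set.range (fun s : F.obj (op U) => (F.map (homOfLE hV).op s, F.map (homOfLE hW).op s)) =
      {p | F.map (homOfLE h1).op p.1 = F.map (homOfLE h2).op p.2}

/-- Arrows landing below one of two opens. -/
def pairSieve (U : X.affineOpens) (O₁ O₂ : X.Opens) : Sieve U where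
  arrows Z _ := (Z : X.Opens) ≤ O₁ ∨ (Z : X.Opens) ≤ O₂
  downward_closed h a := h.imp (le_trans (show _ ≤ _ from leOfHom a)) (le_trans (show _ ≤ _ from leOfHom a))

theorem map_irrel {Z T : X.affineOpens} (a b : Z ⟶ T) (s : F.obj (op T)) : F.map a.op s = F.map b.op s := by
  rw [Subsingleton.elim a b]

theorem map_map {A B C : X.affineOpens} (a : A ⟶ B) (b : B ⟶ C) (c : A ⟶ C) (s : F.obj (op C)) :
    F.map a.op (F.map b.op s) = F.map c.op s := by
  rw [← Functor.map_comp_apply, ← op_comp]; exact map_irrel F _ _ s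

theorem isSheafFor_pair (hF : Glue₂ F) (U : X.affineOpens) (f g : Γ(X, (U : X.Opens)))
    (h : (U : X.Opens) = X.basicOpen f ⊔ X.basicOpen g) :
    Presieve.IsSheafFor F (pairSieve U (X.basicOpen f) (X.basicOpen g)).arrows := by
  let V : X.affineOpens := ⟨X.basicOpen f, U.2.basicOpen f⟩
  let W : X.affineOpens := ⟨X.basicOpen g, U.2.basicOpen g⟩
  let VW : X.affineOpens := ⟨X.basicOpen (f * g), U.2.basicOpen (f * g)⟩
  have hV : V ≤ U := X.basicOpen_le f
  have hW : W ≤ U := X.basicOpen_le g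
  have h1 : VW ≤ V := (X.basicOpen_mul f g).le.trans inf_le_left
  have h2 : VW ≤ W := (X.basicOpen_mul f g).le.trans inf_le_right
  obtain ⟨hinj, hrange⟩ := hF U V W VW f g rfl rfl rfl h hV hW h1 h2
  intro x hx
  have hxV : (pairSieve U (X.basicOpen f) (X.basicOpen g)).arrows (homOfLE hV) := Or.inl le_rfl
  have hxW : (pairSieve U (X.basicOpen f) (X.basicOpen g)).arrows (homOfLE hW) := Or.inr le_rfl
  have hc : F.map (homOfLE h1).op (x _ hxV) = F.map (homOfLE h2).op (x _ hxW) :=
    hx _ _ hxV hxW (Subsingleton.elim _ _)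
  obtain ⟨s, hs⟩ : (x _ hxV, x _ hxW) ∈ Set.range (fun s : F.obj (op U) => (F.map (homOfLE hV).op s, F.map (homOfLE hW).op s)) := by
    rw [hrange]; exact hc
  obtain ⟨e1, e2⟩ := Prod.ext_iff.1 hs
  dsimp only at e1 e2
  refine ⟨s, fun Z a ha => ?_, fun t ht => hinj (Prod.ext ((ht _ hxV).trans e1.symm) ((ht _ hxW).trans e2.symm))⟩
  obtain hZ | hZ := ha
  · have hZ' : Z ≤ V := hZ
    have h := hx (f₂ := a) (homOfLE hZ') (𝟙 Z) hxV (Or.inl hZ : (pairSieve U (X.basicOpen f) (X.basicOpen g)).arrows a) (Subsingleton.elim _ _)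
    simp only [op_id, Functor.map_id_apply] at h
    rw [← h, ← e1]
    exact (map_map F _ _ a s).symm
  · have hZ' : Z ≤ W := hZ
    have h := hx (f₂ := a) (homOfLE hZ') (𝟙 Z) hxW (Or.inr hZ : (pairSieve U (X.basicOpen f) (X.basicOpen g)).arrows a) (Subsingleton.elim _ _)
    simp only [op_id, Functor.map_id_apply] at h
    rw [← h, ← e2]
    exact (map_map F _ _ a s).symm

theorem pair_mem (hF : Glue₂ F) (U : X.affineOpens) (f g : Γ(X, (U : X.Opens)))
    (h : (U : X.Opens) = X.basicOpen f ⊔ X.basicOpen g) :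
    pairSieve U (X.basicOpen f) (X.basicOpen g) ∈ Sheaf.finestTopologySingle F U := by
  intro W a
  have hWU : (W : X.Opens) ≤ U := leOfHom a
  let r := X.presheaf.map (homOfLE hWU).op
  have hf : X.basicOpen (r f) = (W : X.Opens) ⊓ X.basicOpen f := X.basicOpen_res _ _
  have hg : X.basicOpen (r g) = (W : X.Opens) ⊓ X.basicOpen g := X.basicOpen_res _ _
  have e : (pairSieve U (X.basicOpen f) (X.basicOpen g)).pullback a = pairSieve W (X.basicOpen (r f)) (X.basicOpen (r g)) := by
    ext Z b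
    have hb : (Z : X.Opens) ≤ W := leOfHom b
    show (Z : X.Opens) ≤ _ ∨ (Z : X.Opens) ≤ _ ↔ (Z : X.Opens) ≤ _ ∨ (Z : X.Opens) ≤ _
    rw [hf, hg]
    simp [hb]
  rw [e]
  exact isSheafFor_pair F hF W _ _ (by rw [hf, hg, ← inf_sup_left, ← h, inf_eq_left.2 hWU])

theorem empty_mem (hE : ∀ E : X.affineOpens, (E : X.Opens) = ⊥ → Nonempty (F.obj (op E)) ∧ Subsingleton (F.obj (op E)))
    (U : X.affineOpens) (hU : (U : X.Opens) = ⊥) (R : Sieve U) : R ∈ Sheaf.finestTopologySingle F U := by
  intro W a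
  have hW : (W : X.Opens) = ⊥ := le_bot_iff.1 (hU ▸ leOfHom a)
  obtain ⟨⟨s⟩, hs⟩ := hE W hW
  refine fun x _ => ⟨s, fun Z b hb => ?_, fun t _ => Subsingleton.elim _ _⟩
  haveI := (hE Z (le_bot_iff.1 (hW ▸ (show (Z : X.Opens) ≤ W from leOfHom b)))).2
  exact Subsingleton.elim _ _

theorem finite_mem (hF : Glue₂ F)
    (hE : ∀ E : X.affineOpens, (E : X.Opens) = ⊥ → Nonempty (F.obj (op E)) ∧ Subsingleton (F.obj (op E))) :
    ∀ (n : ℕ) (U : X.affineOpens) (s : Finset Γ(X, (U : X.Opens))), s.card ≤ n →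
      (U : X.Opens) ≤ ⨆ f : (s : Set Γ(X, (U : X.Opens))), X.basicOpen f.1 →
      ∀ R : Sieve U, (∀ (Z : X.affineOpens) (a : Z ⟶ U), (∃ f ∈ s, (Z : X.Opens) ≤ X.basicOpen f) → R a) →
      R ∈ Sheaf.finestTopologySingle F U := by
  classical
  intro n
  induction n with
  | zero =>
    intro U s hs hU R _
    obtain rfl : s = ∅ := Finset.card_eq_zero.1 (Nat.le_zero.1 hs)
    exact empty_mem F hE U (le_bot_iff.1 (hU.trans (iSup_le fun f => absurd f.2 (by simp)))) R
  | succ n ih =>
    intro U s hs hU R hR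
    rcases Nat.lt_or_ge s.card (n + 1) with hlt | hge
    · exact ih U s (Nat.lt_succ_iff.1 hlt) hU R hR
    obtain ⟨f₀, hf₀⟩ : s.Nonempty := Finset.card_pos.1 (by omega)
    have htop := (U.2.self_le_iSup_basicOpen_iff).1 hU
    rw [← Finset.insert_erase hf₀, Finset.coe_insert] at htop
    obtain ⟨a, g, hg, hsum⟩ := Submodule.mem_span_insert.1 ((Ideal.eq_top_iff_one _).1 htop)
    have hpair : (U : X.Opens) = X.basicOpen f₀ ⊔ X.basicOpen g := by
      refine le_antisymm ?_ (sup_le (X.basicOpen_le _) (X.basicOpen_le _))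
      have : (U : X.Opens) ≤ ⨆ f : ({f₀, g} : Set Γ(X, (U : X.Opens))), X.basicOpen f.1 := by
        rw [U.2.self_le_iSup_basicOpen_iff, Ideal.eq_top_iff_one, hsum]
        exact add_mem (Ideal.mul_mem_left _ a (Ideal.subset_span (Set.mem_insert _ _)))
          (Ideal.subset_span (Set.mem_insert_of_mem _ rfl))
      refine this.trans (iSup_le fun ⟨f, hf⟩ => ?_)
      rcases hf with rfl | rfl
      · exact le_sup_left
      · exact le_sup_right
    refine (Sheaf.finestTopologySingle F).transitive (pair_mem F hF U f₀ g hpair) R ?_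
    intro Z b hb
    obtain hZ | hZ := hb
    · rw [show R.pullback b = ⊤ by
        ext T c
        exact ⟨fun _ => trivial, fun _ => hR T (c ≫ b) ⟨f₀, hf₀, le_trans (leOfHom c) hZ⟩⟩]
      exact GrothendieckTopology.top_mem _ _
    · have hZU : (Z : X.Opens) ≤ U := leOfHom b
      let r := X.presheaf.map (homOfLE hZU).op
      refine ih Z ((s.erase f₀).image r) ?_ ?_ (R.pullback b) ?_
      · refine Finset.card_image_le.trans ?_
        rw [Finset.card_erase_of_mem hf₀]; omega
      · rw [Z.2.self_le_iSup_basicOpen_iff, Finset.coe_image, ← Ideal.map_span]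
        have hgu : IsUnit (r g) := by
          have h3 := (X.toRingedSpace.isUnit_res_basicOpen g).map (X.presheaf.map (homOfLE hZ).op).hom
          erw [← CommRingCat.comp_apply, ← Functor.map_comp] at h3
          exact h3
        exact Ideal.eq_top_of_isUnit_mem _ (Ideal.mem_map_of_mem _ hg) hgu
      · rintro T c ⟨f', hf', hT⟩
        obtain ⟨f, hf, rfl⟩ := Finset.mem_image.1 hf'
        refine hR T (c ≫ b) ⟨f, Finset.mem_of_mem_erase hf, hT.trans ?_⟩
        exact (X.basicOpen_res f _).le.trans inf_le_right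

theorem isSheaf (hF : Glue₂ F)
    (hE : ∀ E : X.affineOpens, (E : X.Opens) = ⊥ → Nonempty (F.obj (op E)) ∧ Subsingleton (F.obj (op E))) :
    Presieve.IsSheaf ((incl X).inducedTopology (_root_.Opens.grothendieckTopology X)) F := by
  classical
  intro U S hS
  rw [Functor.mem_inducedTopology_iff_of_isCoverDense] at hS
  have hS' : ∀ x ∈ (U : X.Opens), ∃ f : Γ(X, (U : X.Opens)), x ∈ X.basicOpen f ∧
      S (homOfLE (X.basicOpen_le f) : (⟨X.basicOpen f, U.2.basicOpen f⟩ : X.affineOpens) ⟶ U) := fun x hx => by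
    obtain ⟨V, a, ⟨W, g, h, hg, -⟩, hxV⟩ := hS x hx
    have hxW : x ∈ (W : X.Opens) := (leOfHom h) hxV
    obtain ⟨f, hfW, hxf⟩ := U.2.exists_basicOpen_le ⟨x, hxW⟩ hx
    exact ⟨f, hxf, Sieve.downward_closed S hg (homOfLE hfW : (⟨X.basicOpen f, U.2.basicOpen f⟩ : X.affineOpens) ⟶ W)⟩
  choose f hxf hSf using hS'
  obtain ⟨t, ht⟩ := U.2.isCompact.elim_finite_subcover (fun x : (U : X.Opens) => (X.basicOpen (f x.1 x.2) : Set X))
    (fun x => (X.basicOpen _).2) (fun x hx => Set.mem_iUnion.2 ⟨⟨x, hx⟩, hxf x hx⟩)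
  have := finite_mem F hF hE _ U (t.image fun x => f x.1 x.2) le_rfl (fun y hy => by
    obtain ⟨x, hx, hy'⟩ := Set.mem_iUnion₂.1 (ht hy)
    exact Opens.mem_iSup.2 ⟨⟨f x.1 x.2, Finset.mem_coe.2 (Finset.mem_image_of_mem _ hx)⟩, hy'⟩) S (by
    rintro Z a ⟨g, hg, hZ⟩
    obtain ⟨x, -, rfl⟩ := Finset.mem_image.1 hg
    have := Sieve.downward_closed S (hSf x.1 x.2) (homOfLE hZ : Z ⟶ ⟨X.basicOpen _, U.2.basicOpen _⟩)
    convert this using 1
    exact Subsingleton.elim _ _)
  simpa using this U (𝟙 U)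

theorem exists_extension (hF : Glue₂ F)
    (hE : ∀ E : X.affineOpens, (E : X.Opens) = ⊥ → Nonempty (F.obj (op E)) ∧ Subsingleton (F.obj (op E))) :
    ∃ G : TopCat.Sheaf (Type u) X.carrier, Nonempty ((incl X).op ⋙ G.1 ≅ F) := by
  let Fs : Sheaf ((incl X).inducedTopology (_root_.Opens.grothendieckTopology X)) (Type u) :=
    ⟨F, (isSheaf_iff_isSheaf_of_type _ _).2 (isSheaf F hF hE)⟩
  let e := (incl X).sheafInducedTopologyEquivOfIsCoverDense (A := Type u) (_root_.Opens.grothendieckTopology X)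
  exact ⟨e.functor.obj Fs, ⟨((sheafToPresheaf _ _).mapIso (e.unitIso.app Fs)).symm⟩⟩

theorem of_extension (G : TopCat.Sheaf (Type u) X.carrier) (i : (incl X).op ⋙ G.1 ≅ F) :
    Glue₂ F ∧ ∀ E : X.affineOpens, (E : X.Opens) = ⊥ → Nonempty (F.obj (op E)) ∧ Subsingleton (F.obj (op E)) := by
  have nat : ∀ {A B : X.affineOpens} (a : A ⟶ B) (s : G.1.obj (op (B : X.Opens))),
      i.hom.app (op A) (G.1.map ((incl X).map a).op s) = F.map a.op (i.hom.app (op B) s) := fun a s => by
    exact ConcreteCategory.congr_hom (i.hom.naturality a.op) s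
  have bij : ∀ A : X.affineOpens, Function.Bijective (i.hom.app (op A)) := fun A =>
    ConcreteCategory.bijective_of_isIso (i.hom.app (op A))
  refine ⟨?_, fun E hE => ?_⟩
  · intro U V W VW f g hVf hWg hVWfg hU hV hW h1 h2
    constructor
    · intro s₁ s₂ hs
      obtain ⟨e1, e2⟩ := Prod.ext_iff.1 hs
      obtain ⟨t₁, rfl⟩ := (bij U).2 s₁
      obtain ⟨t₂, rfl⟩ := (bij U).2 s₂
      dsimp only at e1 e2
      exact congrArg _ (G.eq_of_locally_eq₂ _ _ hU.le t₁ t₂ ((bij V).1 ((nat _ _).trans (e1.trans (nat _ _).symm)))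
        ((bij W).1 ((nat _ _).trans (e2.trans (nat _ _).symm))))
    · ext ⟨a, b⟩
      constructor
      · rintro ⟨s, hs⟩
        obtain ⟨e1, e2⟩ := Prod.ext_iff.1 hs
        simp only [Set.mem_setOf_eq] at e1 e2 ⊢
        rw [← e1, ← e2, map_map F _ _ (homOfLE (h1.trans hV)), map_map F _ _ (homOfLE (h1.trans hV))]
      · intro hab
        simp only [Set.mem_setOf_eq] at hab
        obtain ⟨ta, rfl⟩ := (bij V).2 a
        obtain ⟨tb, rfl⟩ := (bij W).2 b
        have hab' := (bij VW).1 ((nat _ _).trans (hab.trans (nat _ _).symm))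
        have gmap : ∀ {A B C : X.Opens} (a : A ⟶ B) (b : B ⟶ C) (c : A ⟶ C) (z : G.1.obj (op C)),
            G.1.map a.op (G.1.map b.op z) = G.1.map c.op z := fun a b c z => by
          rw [← Functor.map_comp_apply, ← op_comp, Subsingleton.elim (a ≫ b) c]
        let O : Bool → X.Opens := fun c => if c then (V : X.Opens) else (W : X.Opens)
        let sf : ∀ c, G.1.obj (op (O c)) := fun c => by
          cases c
          · exact tb
          · exact ta
        have hcompat : TopCat.Presheaf.IsCompatible G.1 O sf := by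
          have key : G.1.map (Opens.infLELeft (V : X.Opens) (W : X.Opens)).op ta = G.1.map (Opens.infLERight (V : X.Opens) (W : X.Opens)).op tb := by
            have hle : (V : X.Opens) ⊓ (W : X.Opens) ≤ VW := by rw [hVf, hWg, hVWfg, X.basicOpen_mul]
            have := congrArg (G.1.map (homOfLE hle).op) hab'
            exact (gmap _ _ _ ta).symm.trans (this.trans (gmap _ _ _ tb))
          have key' : G.1.map (Opens.infLELeft (W : X.Opens) (V : X.Opens)).op tb = G.1.map (Opens.infLERight (W : X.Opens) (V : X.Opens)).op ta := by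
            have := congrArg (G.1.map (homOfLE (inf_comm (W : X.Opens) V).le).op) key
            exact (gmap _ _ _ tb).symm.trans (this.symm.trans (gmap _ _ _ ta))
          rintro (_ | _) (_ | _)
          · rfl
          · exact key'
          · exact key
          · rfl
        obtain ⟨s, hs, -⟩ := G.existsUnique_gluing' O (U : X.Opens) (fun c => homOfLE (by cases c; exacts [hW, hV]))
          (hU.le.trans (sup_le (le_iSup O true) (le_iSup O false))) sf hcompat
        refine ⟨i.hom.app (op U) s, ?_⟩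
        show (F.map (homOfLE hV).op (i.hom.app (op U) s), F.map (homOfLE hW).op (i.hom.app (op U) s)) = _
        refine Prod.ext ((nat _ _).symm.trans ?_) ((nat _ _).symm.trans ?_)
        · exact congrArg (i.hom.app (op V)) (hs true)
        · exact congrArg (i.hom.app (op W)) (hs false)
  · obtain ⟨s, -, hu⟩ := G.existsUnique_gluing' (fun c : PEmpty.{1} => c.elim) (E : X.Opens) (fun c => c.elim) (by rw [hE]; exact bot_le)
      (fun c => c.elim) (fun c => c.elim)
    refine ⟨⟨i.hom.app (op E) s⟩, ⟨fun a b => ?_⟩⟩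
    obtain ⟨a, rfl⟩ := (bij E).2 a
    obtain ⟨b, rfl⟩ := (bij E).2 b
    rw [hu a (fun c => c.elim), hu b (fun c => c.elim)]

end AffSheafLib
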